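import Groth.Agent.LCIMor.Basic

/-!
# Koszul regular immersions are the immersions which are LCI
-/

set_option autoImplicit false
set_option linter.style.haveILetI false

universe u

open CategoryTheory Limits AlgebraicGeometry

namespace Groth.Agent.LCIMor

variable {X Z : Scheme.{u}} (i : Z ⟶ X)

theorem mem_basicOpen_iff_notMem {U : Z.Opens} (hU : IsAffineOpen U) (x : U) (g : Γ(Z, U)) :
    (x : Z) ∈ Z.basicOpen g ↔ g ∉ (hU.primeIdealOf x).asIdeal := by
  have h : hU.primeIdealOf x ∈ hU.fromSpec ⁻¹ᵁ Z.basicOpen g ↔ (x : Z) ∈ Z.basicOpen g := by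
    change hU.fromSpec (hU.primeIdealOf x) ∈ Z.basicOpen g ↔ _
    rw [hU.fromSpec_primeIdealOf]
  rw [← h, hU.fromSpec_preimage_basicOpen]
  rfl

theorem isClosedImmersion_restrict_of_le {W W' : X.Opens} (h : W' ≤ W) [IsClosedImmersion (i ∣_ W)] :
    IsClosedImmersion (i ∣_ W') := by
  have h1 : IsClosedImmersion ((i ∣_ W) ∣_ (W.ι ⁻¹ᵁ W')) := IsZariskiLocalAtTarget.restrict ‹_› _
  have h2 := (MorphismProperty.arrow_mk_iso_iff @IsClosedImmersion (morphismRestrictRestrict i W (W.ι ⁻¹ᵁ W'))).1 h1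
  rwa [Scheme.Hom.image_preimage_eq_opensRange_inf, Scheme.Opens.opensRange_ι, inf_eq_right.2 h] at h2

theorem app_surjective_of_restrict {W : X.Opens} (hW : IsAffineOpen W) [IsClosedImmersion (i ∣_ W)] :
    Function.Surjective (i.app W) ∧ IsAffineOpen (i ⁻¹ᵁ W) := by
  haveI : IsAffine W.toScheme := hW
  have hpre : IsAffineOpen (i ⁻¹ᵁ W) := (isAffine_of_isAffineHom (i ∣_ W) :)
  refine ⟨?_, hpre⟩
  haveI : IsAffine (i ⁻¹ᵁ W).toScheme := hpre
  have h2 := IsClosedImmersion.isAffine_surjective_of_isAffine (i ∣_ W) |>.2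
  rw [morphismRestrict_appTop] at h2
  have key : ∀ W' : X.Opens, W' = W → Function.Surjective (i.app W') → Function.Surjective (i.app W) := by
    rintro _ rfl h
    exact h
  refine key _ W.ι_image_top fun z => ?_
  obtain ⟨w, hw⟩ := h2 ((Z.presheaf.map (eqToHom (image_morphismRestrict_preimage i W ⊤)).op) z)
  exact ⟨w, (ConcreteCategory.bijective_of_isIso (Z.presheaf.map (eqToHom (image_morphismRestrict_preimage i W ⊤)).op)).1 hw⟩

theorem lciMor_of_isRegularImmersion (hi : RegImm.IsRegularImmersion .koszul i) : lciMor i := by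
  rw [lciMor_iff_isKoszulAt]
  intro z
  rw [LCIPres.isKoszulAt_iff]
  obtain ⟨⟨W, hW⟩, hzW, hci, rs, hrs, hker⟩ := hi.2 z
  haveI := hci
  obtain ⟨hs, hpre⟩ := app_surjective_of_restrict i hW
  refine ⟨i ⁻¹ᵁ W, W, le_rfl, hpre, hW, hzW, ?_⟩
  rw [Scheme.Hom.app_eq_appLE] at hs hker
  letI := (i.appLE W (i ⁻¹ᵁ W) le_rfl).hom.toAlgebra
  refine LCIPres.isLCI_of_surjective hs ?_
  rw [LCIPres.isKoszulRegularIdeal_iff]
  intro p hp _
  haveI : IsLocalization.Away (1 : Γ(X, W)) (Localization.Away (1 : Γ(X, W))) := inferInstance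
  have hkr : LCI.IsKoszulRegularSeq Γ(X, W) rs := hrs
  haveI : Module.Flat Γ(X, W) (Localization.Away (1 : Γ(X, W))) := IsLocalization.flat _ (Submonoid.powers 1)
  refine ⟨1, fun h => hp.ne_top ((Ideal.eq_top_iff_one _).2 h), rs.length,
    fun j => algebraMap _ _ (rs.get j), LCIPres.isExact_of_flat ((KoszulExt.isExact_iff _).2 (by rwa [List.ofFn_get])), ?_⟩
  change (RingHom.ker (i.appLE W (i ⁻¹ᵁ W) le_rfl).hom).map _ = _
  rw [hker, Ideal.map_ofList, ← LCIPres.setOf_mem_ofFn]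
  refine congrArg Ideal.span ?_
  ext z
  simp [List.mem_iff_get, eq_comm]

theorem isRegularImmersion_of_lciMor [IsImmersion i] (h : lciMor i) : RegImm.IsRegularImmersion .koszul i := by
  refine ⟨inferInstance, fun z => ?_⟩
  let W₀ := i.coborderRange
  haveI : IsClosedImmersion (i ∣_ W₀) := by
    have e : i ⁻¹ᵁ W₀ = ⊤ := by
      refine top_le_iff.1 fun x _ => ?_
      show i x ∈ coborder (Set.range i)
      exact subset_coborder ⟨x, rfl⟩
    have h1 : i ∣_ W₀ = (i ⁻¹ᵁ W₀).ι ≫ i.liftCoborder := by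
      rw [← cancel_mono W₀.ι, morphismRestrict_ι, Category.assoc]
      exact congrArg _ i.liftCoborder_ι.symm
    haveI : IsIso (i ⁻¹ᵁ W₀).ι := by rw [e]; exact (inferInstance : IsIso Z.topIso.hom)
    rw [h1]
    infer_instance
  obtain ⟨W, hW, hzW, hle⟩ := exists_isAffineOpen_mem_and_subset (U := W₀) (x := i z)
    (show i z ∈ coborder (Set.range i) from subset_coborder ⟨z, rfl⟩)
  haveI := isClosedImmersion_restrict_of_le i (show W ≤ W₀ from hle)
  obtain ⟨hs, hpre⟩ := app_surjective_of_restrict i hW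
  let := (i.app W).hom.toAlgebra
  have hlci : LCI.IsLCI Γ(X, W) Γ(Z, i ⁻¹ᵁ W) := by
    have h1 := h (i ⁻¹ᵁ W) W hpre hW le_rfl
    rw [← Scheme.Hom.app_eq_appLE] at h1
    exact h1
  have hI : LCI.IsKoszulRegularIdeal (RingHom.ker (i.app W).hom) := by
    let v : Fin 0 → Γ(Z, i ⁻¹ᵁ W) := finZeroElim
    let e := MvPolynomial.isEmptyAlgEquiv Γ(X, W) (Fin 0)
    have h2 : (MvPolynomial.aeval (R := Γ(X, W)) v).toRingHom =
        (algebraMap Γ(X, W) Γ(Z, i ⁻¹ᵁ W)).comp e.toRingEquiv.toRingHom := by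
      refine MvPolynomial.ringHom_ext (fun a => ?_) fun i => i.elim0
      change MvPolynomial.aeval v (algebraMap Γ(X, W) _ a) = algebraMap Γ(X, W) _ (e (algebraMap Γ(X, W) _ a))
      rw [AlgHom.commutes, e.commutes]
      rfl
    have hv : Function.Surjective (MvPolynomial.aeval (R := Γ(X, W)) v) := by
      change Function.Surjective (MvPolynomial.aeval (R := Γ(X, W)) v).toRingHom
      rw [h2]
      exact hs.comp e.surjective
    have h3 := (LCIPres.isLCI_iff hv).1 hlci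
    rwa [LCIPres.KPres, h2, ← RingHom.comap_ker, LCIPres.kreg_comap_equiv] at h3
  let zW : ↥(i ⁻¹ᵁ W) := ⟨z, hzW⟩
  let p := (hpre.primeIdealOf zW).asIdeal.comap (i.app W).hom
  obtain ⟨g, hg, m, y, hy, hspan⟩ := (LCIPres.isKoszulRegularIdeal_iff _).1 hI p inferInstance
    (fun a ha => by
      rw [Ideal.mem_comap, show (i.app W).hom a = 0 from ha]
      exact zero_mem _)
  have hW' : IsAffineOpen (X.basicOpen g) := hW.basicOpen g
  refine ⟨⟨X.basicOpen g, hW'⟩, ?_, isClosedImmersion_restrict_of_le i (X.basicOpen_le g), ?_⟩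
  · show z ∈ i ⁻¹ᵁ X.basicOpen g
    rw [Scheme.preimage_basicOpen]
    exact (mem_basicOpen_iff_notMem hpre zW _).2 hg
  letI : Algebra Γ(X, W) Γ(X, X.basicOpen g) := (X.presheaf.map (homOfLE (X.basicOpen_le g)).op).hom.toAlgebra
  haveI : IsLocalization.Away g Γ(X, X.basicOpen g) := hW.isLocalization_basicOpen g
  obtain ⟨y', hy', hspan'⟩ := LCIPres.data_of_dvd (dvd_refl g) Γ(X, X.basicOpen g) hy hspan
  refine ⟨List.ofFn y', (KoszulExt.isExact_iff y').1 hy', ?_⟩
  letI : Algebra Γ(Z, i ⁻¹ᵁ W) Γ(Z, i ⁻¹ᵁ X.basicOpen g) :=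
    (Z.presheaf.map (homOfLE (i.preimage_mono (X.basicOpen_le g))).op).hom.toAlgebra
  haveI : IsLocalization.Away (i.app W g) Γ(Z, i ⁻¹ᵁ X.basicOpen g) :=
    hpre.isLocalization_of_eq_basicOpen _ (homOfLE (i.preimage_mono (X.basicOpen_le g))) (Scheme.preimage_basicOpen i g)
  haveI : IsLocalization ((Submonoid.powers g).map (i.app W).hom) Γ(Z, i ⁻¹ᵁ X.basicOpen g) := by
    rw [Submonoid.map_powers]; infer_instance
  have hm : (i.app (X.basicOpen g)).hom = IsLocalization.map (M := Submonoid.powers g)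
      (T := (Submonoid.powers g).map (i.app W).hom) Γ(Z, i ⁻¹ᵁ X.basicOpen g) (i.app W).hom
      (Submonoid.le_comap_map _) := by
    refine IsLocalization.ringHom_ext (Submonoid.powers g) (RingHom.ext fun a => ?_)
    simp only [RingHom.comp_apply, IsLocalization.map_eq]
    exact ConcreteCategory.congr_hom (i.naturality (homOfLE (X.basicOpen_le g)).op) a
  rw [hm, IsLocalization.ker_map Γ(Z, i ⁻¹ᵁ X.basicOpen g) (i.app W).hom rfl, hspan', Ideal.ofList, LCIPres.setOf_mem_ofFn]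

theorem isRegularImmersion_iff_lciMor [IsImmersion i] : RegImm.IsRegularImmersion .koszul i ↔ lciMor i :=
  ⟨lciMor_of_isRegularImmersion i, isRegularImmersion_of_lciMor i⟩

end Groth.Agent.LCIMor
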