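import Groth.Agent.LCIPres.KoszulAt
import Groth.Agent.PCHom.Scheme
import Groth.Agent.S7070
import Mathlib

/-!
# Local complete intersection morphisms as a morphism property
-/

set_option autoImplicit false
set_option linter.style.haveILetI false

universe u

open CategoryTheory Limits AlgebraicGeometry TensorProduct

namespace Groth.Agent.LCIMor

/-- Local complete intersection ring maps. -/
def LciQ {R S : Type u} [CommRing R] [CommRing S] (f : R →+* S) : Prop :=
  @LCI.IsLCI R _ S _ f.toAlgebra

theorem lciQ_algebraMap (R S : Type u) [CommRing R] [CommRing S] [Algebra R S] :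
    LciQ (algebraMap R S) ↔ LCI.IsLCI R S := by
  rw [LciQ, show (algebraMap R S).toAlgebra = (inferInstance : Algebra R S) from Algebra.algebra_ext _ _ fun _ => rfl]

theorem isLCI_away {R : Type u} [CommRing R] (r : R) (S : Type u) [CommRing S] [Algebra R S] [IsLocalization.Away r S] :
    LCI.IsLCI R S :=
  haveI : Algebra.Etale R S := Algebra.Etale.of_isLocalizationAway r
  LCIPres.isLCI_of_smooth

theorem lciQ_comp {R S T : Type u} [CommRing R] [CommRing S] [CommRing T] {f : R →+* S} {g : S →+* T}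
    (hf : LciQ f) (hg : LciQ g) : LciQ (g.comp f) := by
  letI := f.toAlgebra
  letI := g.toAlgebra
  letI := (g.comp f).toAlgebra
  haveI : IsScalarTower R S T := IsScalarTower.of_algebraMap_eq fun _ => rfl
  exact LCIPres.isLCI_trans hf hg

theorem lciQ_stableUnderComposition : RingHom.StableUnderComposition @LciQ :=
  fun _ _ _ _ _ _ _ _ hf hg => lciQ_comp hf hg

theorem lciQ_targetAway : RingHom.StableUnderCompositionWithLocalizationAwayTarget @LciQ := by
  intro R S T _ _ _ _ s _ f hf
  exact lciQ_comp hf ((lciQ_algebraMap _ _).2 (isLCI_away s T))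

theorem lciQ_sourceAway : RingHom.StableUnderCompositionWithLocalizationAwaySource @LciQ := by
  intro R S T _ _ _ _ r _ f hf
  exact lciQ_comp ((lciQ_algebraMap _ _).2 (isLCI_away r S)) hf

theorem lciQ_localizationAwayPreserves : RingHom.LocalizationAwayPreserves @LciQ := by
  intro R S _ _ f r R' S' _ _ _ _ _ _ hf
  letI := f.toAlgebra
  letI := (IsLocalization.Away.map R' S' f r).toAlgebra
  letI := ((algebraMap S S').comp f).toAlgebra
  haveI : IsScalarTower R S S' := IsScalarTower.of_algebraMap_eq fun _ => rfl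
  haveI : IsScalarTower R R' S' := IsScalarTower.of_algebraMap_eq fun x => by
    simp [RingHom.algebraMap_toAlgebra, IsLocalization.Away.map]
  haveI : IsLocalization.Away (algebraMap R S r) S' := (inferInstance : IsLocalization.Away (f r) S')
  haveI : Algebra.Etale R R' := Algebra.Etale.of_isLocalizationAway r
  exact LCIPres.isLCI_cancel_etale (A := R) (B := R') (LCIPres.isLCI_away hf (algebraMap R S r) S')

theorem lciQ_ofLocalizationSpanTarget : RingHom.OfLocalizationSpanTarget @LciQ := by
  intro R S _ _ f s hs H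
  letI := f.toAlgebra
  have H' : ∀ r : s, LCI.IsLCI R (Localization.Away (r : S)) := fun r => (lciQ_algebraMap _ _).1 (H r)
  haveI : Algebra.FiniteType R S := Algebra.FiniteType.of_span_eq_top_target s hs fun x hx => (H' ⟨x, hx⟩).1
  exact LCIPres.isLCI_of_span s hs fun b hb => H' ⟨b, hb⟩

theorem lciQ_isLocal : RingHom.PropertyIsLocal @LciQ :=
  ⟨lciQ_localizationAwayPreserves, lciQ_ofLocalizationSpanTarget,
    lciQ_ofLocalizationSpanTarget.ofLocalizationSpan lciQ_sourceAway, lciQ_targetAway⟩

theorem lciQ_flatStable : PCHom.FlatStable @LciQ.{u} := by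
  intro R T S _ _ _ _ _ _ h
  exact (lciQ_algebraMap _ _).2 (LCIPres.isLCI_baseChange ((lciQ_algebraMap _ _).1 h))

/-- Local complete intersection morphisms. -/
abbrev lciMor : MorphismProperty Scheme.{u} := fun X Y f =>
  ∀ (U : X.Opens) (V : Y.Opens) (_ : IsAffineOpen U) (_ : IsAffineOpen V) (e : U ≤ f ⁻¹ᵁ V),
    LciQ (f.appLE V U e).hom

instance hasRingHomProperty_lci : HasRingHomProperty lciMor.{u} LciQ where
  isLocal_ringHomProperty := lciQ_isLocal
  eq_affineLocally' := by
    ext X Y f
    rw [affineLocally_iff_affineOpens_le]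
    exact ⟨fun h U V e => h V.1 U.1 V.2 U.2 e, fun h U V hU hV e => h ⟨V, hV⟩ ⟨U, hU⟩ e⟩

instance : lciMor.{u}.IsStableUnderComposition :=
  HasRingHomProperty.stableUnderComposition lciQ_stableUnderComposition

theorem lciMor_iff_isKoszulAt {X S : Scheme.{u}} (f : X ⟶ S) : lciMor f ↔ ∀ x : X, Synt.IsKoszulAt f x := by
  simp only [LCIPres.isKoszulAt_iff]
  rw [HasRingHomProperty.iff_exists_appLE (P := lciMor) lciQ_sourceAway]
  exact forall_congr' fun x => ⟨fun ⟨U, V, hx, e, h⟩ => ⟨V.1, U.1, e, V.2, U.2, hx, h⟩,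
    fun ⟨U, V, e, hU, hV, hx, h⟩ => ⟨⟨V, hV⟩, ⟨U, hU⟩, hx, e, h⟩⟩

theorem lciMor_baseChange {X Y X' Y' : Scheme.{u}} (f : X ⟶ Y) (g : Y' ⟶ Y) [Flat g]
    (f' : X' ⟶ Y') (g' : X' ⟶ X) (hsq : IsPullback g' f' f g) (hf : lciMor f) : lciMor f' := by
  have h := PCHom.pullback_fst_of_flat (P := lciMor) lciQ_flatStable g f hf
  rw [← hsq.flip.isoPullback_hom_fst, MorphismProperty.cancel_left_of_respectsIso lciMor]
  exact h

theorem isPerfectMor_of_lciMor {X S : Scheme.{u}} (f : X ⟶ S) (h : lciMor f) : MoreMor.IsPerfectMor f :=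
  fun U V hU hV e =>
    letI := (f.appLE V U e).hom.toAlgebra
    S7070.result _ _ (h U V hU hV e)

end Groth.Agent.LCIMor
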