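import Groth.Agent.LCIMor.Immersion
import Groth.Agent.LCIPres.Descent
import Groth.Agent.PCHom.BaseChange

/-!
# LCI morphisms descend along fpqc covers
-/

set_option autoImplicit false
set_option linter.style.haveILetI false

universe u

open CategoryTheory Limits AlgebraicGeometry TensorProduct MvPolynomial

namespace Groth.Agent.LCIMor

open LCIPres

/-- LCI homomorphisms descend along faithfully flat maps. -/
theorem isLCI_descend {A B C : Type u} [CommRing A] [CommRing B] [CommRing C] [Algebra A B] [Algebra A C]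
    [Module.FaithfullyFlat A B] (h : LCI.IsLCI B (B ⊗[A] C)) : LCI.IsLCI A C := by
  haveI := h.1
  haveI : Algebra.FiniteType A C := Algebra.FiniteType.of_finiteType_tensorProduct_of_faithfullyFlat B
  obtain ⟨n, v, hv⟩ := exists_pres A C
  let w : Fin n → B ⊗[A] C := fun i => (1 : B) ⊗ₜ[A] v i
  let e := MvPolynomial.algebraTensorAlgEquiv (σ := Fin n) A B
  let ψ := Algebra.TensorProduct.map (AlgHom.id B B) (aeval (R := A) v)
  have heq : (aeval (R := B) w).comp e.toAlgHom = ψ := by
    refine Algebra.TensorProduct.ext (Subsingleton.elim _ _) (MvPolynomial.algHom_ext fun i => ?_)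
    simp [e, ψ, w]
  have hψ : Function.Surjective ψ := by
    intro z
    induction z using TensorProduct.induction_on with
    | zero => exact ⟨0, map_zero ψ⟩
    | add x y hx hy =>
      obtain ⟨x', rfl⟩ := hx
      obtain ⟨y', rfl⟩ := hy
      exact ⟨x' + y', map_add ψ x' y'⟩
    | tmul b c =>
      obtain ⟨p, rfl⟩ := hv c
      exact ⟨b ⊗ₜ[A] p, Algebra.TensorProduct.map_tmul _ _ _ _⟩
  have hw : Function.Surjective (aeval (R := B) w) := fun z => by
    obtain ⟨x, hx⟩ := hψ z
    exact ⟨e x, (AlgHom.congr_fun heq x).trans hx⟩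
  have hker : RingHom.ker (aeval (R := B) w).toRingHom =
      (RingHom.ker (aeval (R := A) v).toRingHom).map (MvPolynomial.map (algebraMap A B)) := by
    have h1 : RingHom.ker ψ = (RingHom.ker (aeval (R := A) v)).map Algebra.TensorProduct.includeRight :=
      Algebra.TensorProduct.lTensor_ker (aeval (R := A) v) hv
    have h2 : RingHom.ker ψ = (RingHom.ker (aeval (R := B) w).toRingHom).comap e.toRingEquiv.toRingHom := by
      rw [RingHom.comap_ker]
      ext x
      rw [RingHom.mem_ker, RingHom.mem_ker, ← heq]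
      exact Iff.rfl
    have h3 := congrArg (Ideal.map e.toRingEquiv.toRingHom) (h2.symm.trans h1)
    rw [Ideal.map_comap_of_surjective e.toRingEquiv.toRingHom e.surjective] at h3
    rw [h3]
    change Ideal.map _ (Ideal.map (Algebra.TensorProduct.includeRight (R := A) (A := B) (B := MvPolynomial (Fin n) A)).toRingHom _) = _
    rw [Ideal.map_map]
    refine congrArg (Ideal.map · _) (MvPolynomial.ringHom_ext (fun a => ?_) fun i => ?_)
    · simp [e]
    · simp [e]
  rw [isLCI_iff hv]
  letI : Algebra (MvPolynomial (Fin n) A) (MvPolynomial (Fin n) B) := MvPolynomial.algebraMvPolynomial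
  haveI := PCHom.faithfullyFlat_map (A := A) (T := B) (n := n)
  refine isKoszulRegularIdeal_of_faithfullyFlat (B := MvPolynomial (Fin n) B) _ ?_
  rw [MvPolynomial.algebraMap_def, ← hker]
  exact (isLCI_iff hw).1 h

theorem lciQ_ffDescends : PCHom.FFDescends @LciQ.{u} := by
  intro R T S _ _ _ _ _ _ h
  exact (lciQ_algebraMap _ _).2 (isLCI_descend ((lciQ_algebraMap _ _).1 h))

theorem lciMor_descend {X Y X' Y' : Scheme.{u}} (f : X ⟶ Y) (g : Y' ⟶ Y) [Flat g] [Surjective g] [QuasiCompact g]
    (f' : X' ⟶ Y') (g' : X' ⟶ X) (hsq : IsPullback g' f' f g) (hf' : lciMor f') : lciMor f :=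
  haveI := PCHom.descendsAlong (P := lciMor.{u}) lciQ_flatStable lciQ_ffDescends
  MorphismProperty.of_isPullback_of_descendsAlong (Q := (@Surjective ⊓ @Flat ⊓ @QuasiCompact : MorphismProperty Scheme.{u}))
    hsq.flip ⟨⟨inferInstance, inferInstance⟩, inferInstance⟩ hf'

end Groth.Agent.LCIMor
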